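import Groth.Agent.WeilPts.Smooth
import Groth.Agent.WeilPts.Grp
import Groth.Agent.GrpScheme.AntiAffineProd
import Groth.Agent.Borel50.UnipGroup
import Groth.Agent.Borel50.RadicalScheme
import Groth.Agent.PRed19.NoTorus
import Groth.Agent.GrpGen19.Basic
import Groth.Agent.UnipLib.Points
import Groth.Agent.S7993
import Groth.Agent.AGFWeil.Main

/-!
Weil restrictions of pseudo-reductive groups are pseudo-reductive.
-/

set_option autoImplicit false
set_option backward.isDefEq.respectTransparency.types false

universe u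

noncomputable section

open CategoryTheory MonoidalCategory CartesianMonoidalCategory MonObj GrpObj AlgebraicGeometry Limits
open Groth.Agent.Borel50.Pts Groth.Agent.Borel50.Lin Groth.Agent.Borel50.Density

attribute [local instance] ptTop

namespace Groth.Agent.WeilPts

/-- a surjective image of a group without subtori has none -/
theorem hasNoSubtorus_image {K : Type u} [Field K] [IsAlgClosed K] {U Q : Over (Spec (CommRingCat.of K))}
    [GrpObj U] [GrpObj Q] [IsAffine U.left] [Smooth U.hom] [ConnectedSpace U.left] [IsAffine Q.left]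
    [Smooth Q.hom] (f : U ⟶ Q) [IsMonHom f] [Surjective f.left] (h : Red.HasNoSubtorus K U) :
    Red.HasNoSubtorus K Q := by
  have := GrpScheme.HomFlat.isReduced_of_smooth U.hom
  have := GrpScheme.HomFlat.isReduced_of_smooth Q.hom
  obtain ⟨N, ⟨Φ⟩⟩ := exists_rep (G := U)
  obtain ⟨M, ⟨Ψ⟩⟩ := exists_rep (G := Q)
  obtain ⟨P, R, hRP, hup, hall⟩ := Borel50.UnipGroup.unipotent_of_noSubtorus h Φ
  refine Borel50.RadicalScheme.hasNoSubtorus_of_isNilpotent Ψ (𝟙 Q) fun w => ?_
  obtain ⟨x, hx⟩ := UnipLib.exists_lift_point f w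
  rw [Category.comp_id, ← hx]
  exact Borel50.UnipMap.isNilpotent_map (Φ.conj P R hRP) hup Ψ f (hall x)

variable {k k' : Type u} [Field k] [Field k'] [Algebra k k'] [Module.Finite k k']

local notation "φ₀" => Spec.map (CommRingCat.ofHom (algebraMap k k'))

theorem pseudoReductive
    (G' : Over (Spec (CommRingCat.of k'))) [GrpObj G'] [IsAffine G'.left] [Smooth G'.hom]
    (hprG' : ∀ (U : Over (Spec (CommRingCat.of k'))) [GrpObj U] (i : U ⟶ G') [IsMonHom i],
      IsClosedImmersion i.left → Smooth U.hom → ConnectedSpace ↥U.left → AlgGrp.IsNormalHom i →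
      (∀ s : ↥(Spec (CommRingCat.of k')),
        Red.HasNoSubtorus (AlgebraicClosure ((Spec (CommRingCat.of k')).residueField s)) (Red.geomFibre s U)) →
      Red.IsTrivialGrp U)
    (G : Over (Spec (CommRingCat.of k))) [GrpObj G] [IsAffine G.left] [Smooth G.hom]
    (e : ∀ Y : Over (Spec (CommRingCat.of k)), (Y ⟶ G) ≃ ((Over.pullback φ₀).obj Y ⟶ G'))
    (he : ∀ (Y Z : Over (Spec (CommRingCat.of k))) (h : Y ⟶ Z) (g : Z ⟶ G),
      e Y (h ≫ g) = (Over.pullback φ₀).map h ≫ e Z g)
    (hmul : ∀ (Y : Over (Spec (CommRingCat.of k))) (g h : Y ⟶ G), e Y (g * h) = e Y g * e Y h)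
    (U : Over (Spec (CommRingCat.of k))) [GrpObj U] (i : U ⟶ G) [IsMonHom i]
    (hci : IsClosedImmersion i.left) (hU : Smooth U.hom) (hc : ConnectedSpace ↥U.left)
    (hn : AlgGrp.IsNormalHom i)
    (hnt : ∀ s : ↥(Spec (CommRingCat.of k)),
        Red.HasNoSubtorus (AlgebraicClosure ((Spec (CommRingCat.of k)).residueField s)) (Red.geomFibre s U)) :
    Red.IsTrivialGrp U := by
  have := hci
  have := hU
  have := hc
  have : IsAffine U.left := isAffine_of_isAffineHom i.left
  have hqm := isMonHom_counit e he hmul
  let q : Red.bc φ₀ G ⟶ G' := e G (𝟙 G)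
  have : IsMonHom q := hqm
  have : Surjective G'.hom := ⟨fun p => ⟨(η[G'] : 𝟙_ (Over (Spec (CommRingCat.of k'))) ⟶ G').left p, by
    rw [← Scheme.Hom.comp_apply, Over.w]; rfl⟩⟩
  have hqs : Surjective q.left := surjective_counit e he
  have hqsm : Smooth q.left := smooth_counit e he
  let U' := Red.bc φ₀ U
  let iU : U' ⟶ Red.bc φ₀ G := (Over.pullback φ₀).map i
  have : IsMonHom iU := by dsimp [iU]; infer_instance
  have : GeometricallyConnected U.hom := GrpGen19.geometricallyConnected_of_point η[U]
  have hc' : ConnectedSpace U'.left := inferInstanceAs (ConnectedSpace ↥(pullback U.hom φ₀))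
  have : Smooth U'.hom := inferInstanceAs (Smooth (pullback.snd U.hom φ₀))
  have : IsAffineHom U.hom := inferInstance
  have : IsAffineHom U'.hom := inferInstanceAs (IsAffineHom (pullback.snd U.hom φ₀))
  have : IsAffine U'.left := isAffine_of_isAffineHom U'.hom
  have : LocallyOfFiniteType G'.hom := inferInstance
  have hFm : IsMonHom (iU ≫ q) := inferInstance
  obtain ⟨Q, hQ, p, j, hp, hj, hcov, hjci, hQlft, hQqc, hpj⟩ :=
    GrpScheme.AntiAffineProd.exists_image (iU ≫ q)
  have := hjci
  have := hp
  have := hj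
  have : IsAffine Q.left := isAffine_of_isAffineHom j.left
  have : Mono j := Over.mono_of_mono_left j
  have := hcov.surj
  have := hcov.flat
  have hQsm : Smooth Q.hom := by
    have : LocallyOfFiniteType (p.left ≫ Q.hom) := by rw [Over.w p]; infer_instance
    have := locallyOfFiniteType_of_comp p.left Q.hom
    have : IsLocallyNoetherian Q.left := LocallyOfFiniteType.isLocallyNoetherian Q.hom
    have : LocallyOfFinitePresentation p.left := inferInstance
    have : Smooth (p.left ≫ Q.hom) := by rw [Over.w p]; infer_instance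
    exact RelDiv.smooth_of_fppf_comp p.left Q.hom
  have hQc : ConnectedSpace Q.left :=
    Function.Surjective.connectedSpace p.left.surjective p.left.continuous
  have hqc : UnipLib.Cover q := by
    refine ⟨inferInstance, hqs, ?_⟩
    have : IsAffineHom G.hom := inferInstance
    have : IsAffineHom (Red.bc φ₀ G).hom := inferInstanceAs (IsAffineHom (pullback.snd G.hom φ₀))
    have : QuasiCompact (q.left ≫ G'.hom) := by rw [Over.w q]; infer_instance
    exact QuasiCompact.of_comp q.left G'.hom
  have hQn : AlgGrp.IsNormalHom j := GrpScheme.AntiAffineProd.isNormalHom_image q hqc iU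
    (Borel50.RadicalScheme.isNormalHom_bc φ₀ i hn) p hcov j hpj
  -- no subtori
  have hQt : ∀ s : ↥(Spec (CommRingCat.of k')),
      Red.HasNoSubtorus (AlgebraicClosure ((Spec (CommRingCat.of k')).residueField s)) (Red.geomFibre s Q) := by
    intro s
    let K := AlgebraicClosure k'
    let b' := Spec.map (CommRingCat.ofHom (algebraMap k' K))
    have : Algebra.IsAlgebraic k K := Algebra.IsAlgebraic.trans k k' K
    have : IsAlgClosure k K := ⟨inferInstance, inferInstance⟩
    obtain ⟨s₀⟩ : Nonempty ↥(Spec (CommRingCat.of k)) := inferInstanceAs (Nonempty (PrimeSpectrum k))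
    obtain ⟨ε, hε, hεe⟩ := PRed19.exists_geomPt_eq k s₀
    let θ := (IsAlgClosure.equiv k (AlgebraicClosure k) K).toRingEquiv
    have hbφ : b' ≫ φ₀ = (Spec.map (CommRingCat.ofHom θ.toRingHom) ≫ inv ε) ≫ Red.geomPt s₀ := by
      rw [hεe, Category.assoc, IsIso.inv_hom_id_assoc, ← Spec.map_comp, ← Spec.map_comp]
      refine congrArg Spec.map (CommRingCat.hom_ext (RingHom.ext fun r => ?_))
      show algebraMap k' K (algebraMap k k' r) = θ (algebraMap k (AlgebraicClosure k) r)
      rw [← IsScalarTower.algebraMap_apply k k' K]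
      exact ((IsAlgClosure.equiv k (AlgebraicClosure k) K).commutes r).symm
    have : IsIso (Spec.map (CommRingCat.ofHom θ.toRingHom)) := by
      have : IsIso (CommRingCat.ofHom θ.toRingHom) := (θ.toCommRingCatIso).isIso_hom
      infer_instance
    have h0 : PRed19.NoTorus (Red.geomPt s₀) U := hnt s₀
    have h1 : PRed19.NoTorus (b' ≫ φ₀) U := by rw [hbφ]; exact h0.of_isIso _
    have h2 : Red.HasNoSubtorus K (Red.bc b' U') := by
      intro T _ jT _ _ hT
      let m := PRed19.bcComp b' φ₀ U
      have : IsMonHom m.inv.hom.hom := inferInstance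
      have : Mono m.inv.hom.hom := by
        exact inferInstanceAs (Mono ((Grp.forget _).map m.inv))
      exact h1 T (jT ≫ m.inv.hom.hom) hT
    let pK : Red.bc b' U' ⟶ Red.bc b' Q := (Over.pullback b').map p
    have : IsMonHom pK := by dsimp [pK]; infer_instance
    have : Smooth (Red.bc b' U').hom := inferInstanceAs (Smooth (pullback.snd U'.hom b'))
    have : Smooth (Red.bc b' Q).hom := inferInstanceAs (Smooth (pullback.snd Q.hom b'))
    have : IsAffineHom Q.hom := inferInstance
    have : IsAffineHom (Red.bc b' U').hom := inferInstanceAs (IsAffineHom (pullback.snd U'.hom b'))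
    have : IsAffineHom (Red.bc b' Q).hom := inferInstanceAs (IsAffineHom (pullback.snd Q.hom b'))
    have : IsAffine (Red.bc b' U').left := isAffine_of_isAffineHom (Red.bc b' U').hom
    have : IsAffine (Red.bc b' Q).left := isAffine_of_isAffineHom (Red.bc b' Q).hom
    have : GeometricallyConnected U'.hom := GrpGen19.geometricallyConnected_of_point η[U']
    have : ConnectedSpace (Red.bc b' U').left := inferInstanceAs (ConnectedSpace ↥(pullback U'.hom b'))
    have : Surjective pK.left := by
      have sq : IsPullback (pullback.fst U'.hom b') pK.left p.left (pullback.fst Q.hom b') := by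
        refine IsPullback.of_bot ?_ (pullback.lift_fst _ _ _).symm (IsPullback.of_hasPullback Q.hom b')
        rw [show pK.left ≫ pullback.snd Q.hom b' = pullback.snd U'.hom b' from Over.w pK, Over.w p]
        exact IsPullback.of_hasPullback U'.hom b'
      exact MorphismProperty.of_isPullback (P := @Surjective) sq hcov.surj
    have h3 : PRed19.NoTorus b' Q := hasNoSubtorus_image pK h2
    obtain ⟨ε', hε', hεe'⟩ := PRed19.exists_geomPt_eq k' s
    show PRed19.NoTorus (Red.geomPt s) Q
    rw [hεe']
    exact h3.of_isIso ε'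
  have hQiso : IsIso Q.hom := hprG' Q j hjci hQsm hQc hQn hQt
  have hidQ : (𝟙 Q : Q ⟶ Q) = 1 := Over.OverMorphism.ext (by
    rw [← cancel_mono Q.hom, Over.w, Over.w])
  have hei : e U i = e U 1 := by
    rw [e_one e hmul, ← map_comp_counit e he U i]
    show iU ≫ q = 1
    rw [← hpj, ← Category.comp_id p, hidQ, MonObj.comp_one, MonObj.one_comp]
  have hi1 : i = 1 := (e U).injective hei
  have : Mono i := Over.mono_of_mono_left i
  refine Groth.Agent.AGFWeil.isTrivialGrp_of_id_eq_one U ?_
  rw [← cancel_mono i, Category.id_comp, MonObj.one_comp, hi1]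

end Groth.Agent.WeilPts
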