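import Groth.Agent.WeilPts.Basic
import Groth.Agent.AGFWeil.Affine

/-!
The unit of a Weil restriction along a finite faithfully flat algebra is a closed immersion.
-/

set_option autoImplicit false

universe u

noncomputable section

open CategoryTheory Limits AlgebraicGeometry
open scoped TensorProduct

namespace Groth.Agent.WeilPts

variable (B B' : Type u) [CommRing B] [CommRing B'] [Algebra B B'] [Module.Finite B B'] [Module.Projective B B']

theorem exists_retraction (h : Function.Surjective (PrimeSpectrum.comap (algebraMap B B'))) :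
    ∃ ρ : B' →ₗ[B] B, ρ 1 = 1 := by
  let T : Ideal B := LinearMap.range (LinearMap.applyₗ (1 : B') : (B' →ₗ[B] B) →ₗ[B] B)
  suffices hT : T = ⊤ by
    have h1 : (1 : B) ∈ T := by rw [hT]; trivial
    obtain ⟨ρ, hρ⟩ := h1
    exact ⟨ρ, hρ⟩
  by_contra hT
  obtain ⟨m, hm, hle⟩ := Ideal.exists_le_maximal T hT
  obtain ⟨n, f, g, -, -, hfg⟩ := Module.Finite.exists_comp_eq_id_of_projective B B'
  obtain ⟨q, hq⟩ := h ⟨m, hm.isPrime⟩
  have hmq : ∀ c ∈ m, algebraMap B B' c ∈ q.asIdeal := fun c hc => by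
    have : c ∈ (PrimeSpectrum.comap (algebraMap B B') q).asIdeal := by rw [hq]; exact hc
    exact this
  have h1 : f (g 1) = 1 := LinearMap.congr_fun hfg 1
  apply q.isPrime.ne_top
  rw [Ideal.eq_top_iff_one, ← h1, ← Finset.univ_sum_single (g 1), map_sum]
  refine Ideal.sum_mem _ fun i _ => ?_
  have hmem : g 1 i ∈ m := hle ⟨(LinearMap.proj i).comp g, rfl⟩
  rw [show (Pi.single i (g 1 i) : Fin n → B) = g 1 i • Pi.single i (1 : B) by
    rw [← Pi.single_smul, smul_eq_mul, mul_one], map_smul, Algebra.smul_def]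
  exact Ideal.mul_mem_right _ _ (hmq _ hmem)

theorem lid_rTensor_map {C D : Type u} [CommRing C] [Algebra B C] [CommRing D] [Algebra B D] (g : B' →ₗ[B] B)
    (q : C →ₐ[B] D) (z : B' ⊗[B] C) :
    TensorProduct.lid B D (g.rTensor D (Algebra.TensorProduct.map (AlgHom.id B' B') q z)) =
      q (TensorProduct.lid B C (g.rTensor C z)) := by
  induction z using TensorProduct.induction_on with
  | zero => simp
  | tmul b c => simp
  | add x y hx hy => simp only [map_add, hx, hy]

variable {B B'} {Y R : Over (Spec (CommRingCat.of B))}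
  (e : ∀ Z : Over (Spec (CommRingCat.of B)), (Z ⟶ R) ≃ ((bc B B').obj Z ⟶ (bc B B').obj Y))
  (he : ∀ (Z W : Over (Spec (CommRingCat.of B))) (h : Z ⟶ W) (g : W ⟶ R),
    e Z (h ≫ g) = (bc B B').map h ≫ e W g)

include he in
theorem resPt_unit {A : Type u} [CommRing A] [Algebra B A] (i : pt B A ≅ Y) (D : Type u) [CommRing D]
    [Algebra B D] (α : A →ₐ[B] D) :
    resPt e D ((ptMap α ≫ i.hom) ≫ (e Y).symm (𝟙 _)) =
      ptMap (Algebra.TensorProduct.map (AlgHom.id B' B') α) ≫
        ((bcPt B B' A).symm ≪≫ (bc B B').mapIso i).hom := by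
  rw [resPt_apply, he, Equiv.apply_symm_apply, Category.comp_id, Functor.map_comp, ← Category.assoc,
    ← bcPt_natural]
  simp

include he in
theorem isClosedImmersion_unit [IsAffine Y.left]
    (h : Function.Surjective (PrimeSpectrum.comap (algebraMap B B'))) :
    IsClosedImmersion ((e Y).symm (𝟙 ((bc B B').obj Y))).left := by
  obtain ⟨ρ, hρ⟩ := exists_retraction B B' h
  obtain ⟨A, _, _, ⟨iY⟩⟩ := exists_pt_iso Y
  let j := (e Y).symm (𝟙 ((bc B B').obj Y))
  let i := (bcPt B B' A).symm ≪≫ (bc B B').mapIso iY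
  suffices H : ∀ (C : CommRingCat.{u}) (a : Spec C ⟶ R.left), IsClosedImmersion (pullback.snd j.left a) by
    refine IsZariskiLocalAtTarget.of_openCover (P := @IsClosedImmersion) R.left.affineCover fun x => ?_
    exact H _ _
  intro C a
  let al := Spec.preimage (a ≫ R.hom)
  let _ : Algebra B C := al.hom.toAlgebra
  let a' : pt B C ⟶ R := Over.homMk a (Spec.map_preimage (a ≫ R.hom)).symm
  obtain ⟨ψ, hψ⟩ := exists_psi e i C a'
  let χ : A → B' ⊗[B] C := fun x => ψ (1 ⊗ₜ x)
  let J : Ideal C := Ideal.span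
    {c | ∃ (g : B' →ₗ[B] B) (x : A), g 1 = 0 ∧ TensorProduct.lid B C (g.rTensor C (χ x)) = c}
  let q : C →ₐ[B] C ⧸ J := Ideal.Quotient.mkₐ B J
  let qq := Algebra.TensorProduct.map (AlgHom.id B' B') q
  let α₀ : A → C ⧸ J := fun x => TensorProduct.lid B (C ⧸ J) (ρ.rTensor _ (qq (χ x)))
  have hz : ∀ x, qq (χ x) = 1 ⊗ₜ[B] α₀ x := fun x =>
    eq_one_tmul_of_forall_dual B B' (C ⧸ J) ρ hρ _ fun g hg => by
      rw [lid_rTensor_map]
      exact Ideal.Quotient.eq_zero_iff_mem.mpr (Ideal.subset_span ⟨g, x, hg, rfl⟩)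
  have hinj : Function.Injective (fun d : C ⧸ J => (1 : B') ⊗ₜ[B] d) := fun d d' hd => by
    have := congrArg (fun z => TensorProduct.lid B (C ⧸ J) (ρ.rTensor _ z)) hd
    simpa [hρ] using this
  let F : A →ₐ[B] B' ⊗[B] (C ⧸ J) :=
    ((qq.comp ψ).restrictScalars B).comp Algebra.TensorProduct.includeRight
  have hF : ∀ x, F x = 1 ⊗ₜ[B] α₀ x := hz
  let α : A →ₐ[B] C ⧸ J :=
    { toFun := α₀
      map_one' := hinj (by show 1 ⊗ₜ[B] α₀ 1 = _; rw [← hF, map_one]; rfl)
      map_mul' := fun x y => hinj (by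
        show 1 ⊗ₜ[B] α₀ (x * y) = 1 ⊗ₜ[B] (α₀ x * α₀ y)
        rw [← hF, map_mul, hF, hF, Algebra.TensorProduct.tmul_mul_tmul, one_mul])
      map_zero' := hinj (by show (1 : B') ⊗ₜ[B] α₀ 0 = (1 : B') ⊗ₜ[B] (0 : C ⧸ J); rw [← hF, map_zero, TensorProduct.tmul_zero])
      map_add' := fun x y => hinj (by
        show 1 ⊗ₜ[B] α₀ (x + y) = 1 ⊗ₜ[B] (α₀ x + α₀ y)
        rw [← hF, map_add, hF, hF, TensorProduct.tmul_add])
      commutes' := fun b => hinj (by
        show 1 ⊗ₜ[B] α₀ _ = 1 ⊗ₜ[B] algebraMap B (C ⧸ J) b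
        rw [← hF, F.commutes]
        exact (Algebra.TensorProduct.includeRight (R := B) (A := B') (B := C ⧸ J)).commutes b |>.symm) }
  have hqψ : qq.comp ψ = Algebra.TensorProduct.map (AlgHom.id B' B') α :=
    Algebra.TensorProduct.ext (Subsingleton.elim _ _) (AlgHom.ext fun x => (hz x).trans rfl)
  let l : pt B (C ⧸ J) ⟶ Y := ptMap α ≫ iY.hom
  have hl : l ≫ j = ptMap q ≫ a' := by
    apply (resPt e (C ⧸ J)).injective
    rw [resPt_natural e he, hψ, resPt_unit e he, ← Category.assoc, ← ptMap_comp, hqψ]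
  let L : Spec (CommRingCat.of (C ⧸ J)) ⟶ pullback j.left a :=
    pullback.lift l.left (Spec.map (CommRingCat.ofHom q.toRingHom))
      (congrArg (fun s : pt B (C ⧸ J) ⟶ R => s.left) hl)
  have hci : IsClosedImmersion (Spec.map (CommRingCat.ofHom q.toRingHom)) :=
    IsClosedImmersion.spec_of_surjective _ Ideal.Quotient.mk_surjective
  have hL : IsIso L := by
    apply AGFWeil.isIso_of_points
    intro E y
    obtain ⟨φ₀, hφ₀⟩ := Spec.map_surjective (y ≫ pullback.snd j.left a)
    let _ : Algebra B E := (φ₀.hom.comp (algebraMap B C)).toAlgebra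
    let φ : C →ₐ[B] E := { φ₀.hom with commutes' := fun _ => rfl }
    have hy : (y ≫ pullback.fst j.left a) ≫ Y.hom = (pt B E).hom := by
      rw [← Over.w j, Category.assoc, pullback.condition_assoc, ← Category.assoc, ← hφ₀]
      show Spec.map φ₀ ≫ a'.left ≫ R.hom = _
      rw [Over.w a']
      exact (Spec.map_comp _ _).symm
    let s : pt B E ⟶ Y := Over.homMk (y ≫ pullback.fst j.left a) hy
    obtain ⟨β, hβ⟩ := exists_algHom (s ≫ iY.inv)
    have hs : s = ptMap β ≫ iY.hom := by rw [← hβ, Category.assoc, Iso.inv_hom_id, Category.comp_id]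
    have hsj : s ≫ j = ptMap φ ≫ a' := Over.OverMorphism.ext (by
      show (y ≫ pullback.fst j.left a) ≫ j.left = Spec.map φ₀ ≫ a
      rw [hφ₀, Category.assoc, Category.assoc, pullback.condition])
    have h' := congrArg (resPt e E) hsj
    rw [hs, resPt_unit e he, resPt_natural e he, hψ, ← Category.assoc, ← ptMap_comp, cancel_mono] at h'
    have h'' : ∀ x, Algebra.TensorProduct.map (AlgHom.id B' B') φ (χ x) = 1 ⊗ₜ[B] β x := fun x =>
      ((AlgHom.congr_fun (ptMap_injective h') (1 ⊗ₜ[B] x)).symm).trans (by simp)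
    have hJ : J ≤ RingHom.ker φ.toRingHom := by
      refine Ideal.span_le.mpr ?_
      rintro c ⟨g, x, hg, rfl⟩
      show φ _ = 0
      rw [← lid_rTensor_map, h'']
      simp [hg]
    let φ' : C ⧸ J →ₐ[B] E := Ideal.Quotient.liftₐ J φ (fun c hc => hJ hc)
    have hφ' : φ'.comp q = φ := AlgHom.ext fun c => rfl
    have hαβ : φ'.comp α = β := AlgHom.ext fun x => by
      show φ' (α₀ x) = β x
      rw [show α₀ x = q (TensorProduct.lid B C (ρ.rTensor C (χ x))) from lid_rTensor_map B B' ρ q (χ x),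
        show φ' (q _) = φ _ from AlgHom.congr_fun hφ' _, ← lid_rTensor_map, h'']
      simp [hρ]
    refine ⟨Spec.map (CommRingCat.ofHom φ'.toRingHom), pullback.hom_ext ?_ ?_, fun x' hx' => ?_⟩
    · rw [Category.assoc, show L ≫ pullback.fst j.left a = l.left from pullback.lift_fst _ _ _]
      show (ptMap φ' ≫ l).left = s.left
      rw [← Category.assoc, ← ptMap_comp, hαβ, hs]
    · rw [Category.assoc, show L ≫ pullback.snd j.left a = Spec.map (CommRingCat.ofHom q.toRingHom) from
        pullback.lift_snd _ _ _, ← Spec.map_comp, ← hφ₀]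
      exact congrArg (fun t => Spec.map t) (CommRingCat.hom_ext (congrArg AlgHom.toRingHom hφ'))
    · rw [← cancel_mono (Spec.map (CommRingCat.ofHom q.toRingHom))]
      have h2 := congrArg (· ≫ pullback.snd j.left a) hx'
      rw [Category.assoc, show L ≫ pullback.snd j.left a = Spec.map (CommRingCat.ofHom q.toRingHom) from
        pullback.lift_snd _ _ _] at h2
      rw [h2, ← hφ₀, ← Spec.map_comp]
      exact congrArg (fun t => Spec.map t) (CommRingCat.hom_ext (congrArg AlgHom.toRingHom hφ').symm)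
  rw [show pullback.snd j.left a = inv L ≫ Spec.map (CommRingCat.ofHom q.toRingHom) by
    rw [IsIso.eq_inv_comp]; exact pullback.lift_snd _ _ _]
  infer_instance

end Groth.Agent.WeilPts
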